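import Groth.Agent.Lib.TorusPrim24.Criterion
import Groth.Agent.Lib.IsogGaGm24.Main
import Groth.Agent.Lib.AlgSp.AffineDescent
import Groth.Agent.Lib.Rigidity.KernelPair
import Groth.Agent.Lib.TorusNorm25.Torus
import Groth.Prelude.Def_SGA7IX

/-!
# Isogenies of connected commutative affine groups preserve tori
-/

set_option autoImplicit false
set_option linter.all false
set_option backward.isDefEq.respectTransparency false

universe u

open CategoryTheory CategoryTheory.Limits MonoidalCategory CartesianMonoidalCategory MonObj GrpObj AlgebraicGeometry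
open scoped TensorProduct

namespace GrothLib.TorusPrim24

open GrothLib.MultHopf14

variable {k : Type u} [Field k]

local notation "S₀" => Spec (CommRingCat.of k)

/-- A surjective homomorphism of affine groups, the target being reduced, is injective on functions. -/
theorem exists_injective_bialgHom {A A' : Type u} [CommRing A] [HopfAlgebra k A] [CommRing A'] [HopfAlgebra k A']
    [IsReduced A] {G G' : Over S₀} [GrpObj G] [GrpObj G'] (e : Grp.mk (specGrp (R := k) A) ≅ Grp.mk G)
    (e' : Grp.mk (specGrp (R := k) A') ≅ Grp.mk G') (f : G' ⟶ G) [IsMonHom f] [Surjective f.left] :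
    ∃ φ : A →ₐc[k] A', Function.Injective φ := by
  let fg : Grp.mk G' ⟶ Grp.mk G := Grp.ofHom f
  let q : (hopfSpec (CommRingCat.of k)).obj (Opposite.op (CommHopfAlgCat.of k A')) ⟶
      (hopfSpec (CommRingCat.of k)).obj (Opposite.op (CommHopfAlgCat.of k A)) := e'.hom ≫ fg ≫ e.inv
  haveI : (hopfSpec (CommRingCat.of k)).Full := hopfSpec.instFull
  obtain ⟨ψ, hψ⟩ := (hopfSpec (CommRingCat.of k)).map_surjective q
  let φ : A →ₐc[k] A' := ψ.unop.hom
  refine ⟨φ, ?_⟩
  let i : specGrp (R := k) A ≅ G := (Grp.forget _).mapIso e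
  let i' : specGrp (R := k) A' ≅ G' := (Grp.forget _).mapIso e'
  have h1 : Spec.map (CommRingCat.ofHom (φ : A →+* A')) = i'.hom.left ≫ f.left ≫ i.inv.left :=
    congrArg (fun w => w.hom.hom.left) hψ
  haveI : IsIso i'.hom.left := inferInstanceAs (IsIso ((Over.forget _).map i'.hom))
  haveI : IsIso i.inv.left := inferInstanceAs (IsIso ((Over.forget _).map i.inv))
  haveI : Surjective (Spec.map (CommRingCat.ofHom (φ : A →+* A'))) := by
    rw [h1]; infer_instance
  have hs := (Spec.map (CommRingCat.ofHom (φ : A →+* A'))).surjective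
  refine (injective_iff_map_eq_zero _).2 fun a ha => IsReduced.eq_zero a ?_
  rw [nilpotent_iff_mem_prime]
  intro P hP
  obtain ⟨Q, hQ⟩ := hs ⟨P, hP⟩
  have : P = Q.asIdeal.comap (φ : A →+* A') := (congrArg PrimeSpectrum.asIdeal hQ).symm
  rw [this, Ideal.mem_comap]
  show φ a ∈ Q.asIdeal
  rw [ha]
  exact zero_mem _

/-- Integral affine groups have domains of functions. -/
theorem isDomain_of_iso {A : Type u} [CommRing A] [HopfAlgebra k A] {G : Over S₀} [GrpObj G] [IsIntegral G.left]
    (e : Grp.mk (specGrp (R := k) A) ≅ Grp.mk G) : IsDomain A := by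
  let i : specGrp (R := k) A ≅ G := (Grp.forget _).mapIso e
  haveI : IsIso i.inv.left := inferInstanceAs (IsIso ((Over.forget _).map i.inv))
  haveI : IsIntegral (Spec (CommRingCat.of A)) := .of_isIso i.inv.left
  exact (affine_isIntegral_iff (CommRingCat.of A)).1 inferInstance

/-- The functions of a smooth connected affine group remain a domain over an algebraic closure. -/
theorem isDomain_baseChange {A : Type u} [CommRing A] [HopfAlgebra k A] {G : Over S₀} [GrpObj G] [Smooth G.hom]
    [ConnectedSpace ↥G.left] (e : Grp.mk (specGrp (R := k) A) ≅ Grp.mk G) :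
    IsDomain (AlgebraicClosure k ⊗[k] A) := by
  haveI := Neutral.geometricallyConnected_of_point G.hom (η[G] : 𝟙_ _ ⟶ G).left (Over.w _)
  haveI := Rigidity.geometricallyIntegral_of_smooth G
  let σ : Spec (CommRingCat.of (AlgebraicClosure k)) ⟶ S₀ :=
    Spec.map (CommRingCat.ofHom (algebraMap k (AlgebraicClosure k)))
  obtain ⟨e₁⟩ := bcGrp_specGrp (R := k) (AlgebraicClosure k) A
  let e₂ := e₁.symm ≪≫ (Over.pullback σ).mapGrp.mapIso e
  haveI : Subsingleton ↥(Spec (CommRingCat.of (AlgebraicClosure k))) :=
    inferInstanceAs (Subsingleton (PrimeSpectrum (AlgebraicClosure k)))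
  haveI : IsLocallyNoetherian (pullback G.hom σ) := LocallyOfFiniteType.isLocallyNoetherian (pullback.snd G.hom σ)
  haveI : IsIntegral (Red.bc σ G).left := GeometricallyIntegral.isIntegral_of_subsingleton (pullback.snd G.hom σ)
  exact isDomain_of_iso e₂

/-- A homomorphism with finite kernel onto a reduced group is finite, if source and target are affine. -/
theorem isFinite_of_finite_kernel {G G' : Over S₀} [GrpObj G] [GrpObj G'] [LocallyOfFiniteType G.hom]
    [LocallyOfFiniteType G'.hom] [IsReduced G.left] [IsAffine G.left] [IsAffine G'.left]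
    (f : G' ⟶ G) [IsMonHom f] (hf : SGA7.IsIsogenyOver f) : IsFinite f.left := by
  haveI := hf.1
  haveI : LocallyOfFiniteType f.left := by
    haveI : LocallyOfFiniteType (f.left ≫ G.hom) := by rw [Over.w f]; infer_instance
    exact locallyOfFiniteType_of_comp f.left G.hom
  haveI : IsLocallyNoetherian G.left := LocallyOfFiniteType.isLocallyNoetherian G.hom
  haveI : Flat f.left := GrpSchField.flat_hom f
  have hi : AlgGrp.IsKernel (pullback.fst f η[G]) f := by
    have := IsPullback.of_hasPullback f η[G]
    rwa [toUnit_unique (pullback.snd f η[G]) (toUnit _)] at this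
  haveI : IsFinite (pullback f η[G]).hom := hf.2 _ _ hi
  have sq := (Rigidity.isPullback_kernelPair f _ hi).map (Over.forget S₀)
  haveI : IsFinite (snd (pullback f η[G]) G').left :=
    inferInstanceAs (IsFinite (Limits.pullback.snd (pullback f η[G]).hom G'.hom))
  exact AlgSp.fppfDescends_isFinite _ _ _ _ sq ‹Flat f.left›
    (inferInstance : LocallyOfFinitePresentation f.left) ‹Surjective f.left› ‹_›

/-- Multiplication by a positive integer on a torus is surjective. -/
theorem surjective_pow_of_isTorus {G : Over S₀} [GrpObj G] (hG : Red.IsTorus G) {n : ℕ} (hn : 0 < n) :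
    Surjective ((𝟙 G) ^ n).left := by
  refine ⟨fun y => ?_⟩
  let K₀ := AlgebraicClosure (G.left.residueField y)
  let t₀ : Spec (CommRingCat.of K₀) ⟶ G.left :=
    Spec.map (CommRingCat.ofHom (algebraMap (G.left.residueField y) K₀)) ≫ G.left.fromSpecResidueField y
  obtain ⟨L, _, _, r, ⟨eL⟩⟩ := RankComm14.exists_split_over hG (t₀ ≫ G.hom)
  let σ : Spec (CommRingCat.of L) ⟶ S₀ :=
    Spec.map (CommRingCat.ofHom (algebraMap K₀ L)) ≫ t₀ ≫ G.hom
  let K := AlgebraicClosure L
  let q : Spec (CommRingCat.of K) ⟶ Spec (CommRingCat.of L) := Spec.map (CommRingCat.ofHom (algebraMap L K))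
  let T : Over (Spec (CommRingCat.of L)) := Over.mk q
  let x : (Over.map σ).obj T ⟶ G :=
    Over.homMk (q ≫ Spec.map (CommRingCat.ofHom (algebraMap K₀ L)) ≫ t₀) (by simp [T, σ])
  let iL : Red.bc σ G ≅ Red.DS (Spec (CommRingCat.of L)) (Fin r → ℤ) := (Grp.forget _).mapIso eL
  haveI : IsMonHom iL.hom := eL.hom.hom.isMonHom_hom
  obtain ⟨χ, hχ⟩ := (DiagGrp.dsPoint (Fin r → ℤ) q).surjective (DiagGrp.bcPoint σ G T x ≫ iL.hom)
  have hroot : ∀ j : Fin r, ∃ u : Kˣ, (u : K) ^ n = χ (Multiplicative.ofAdd (Pi.single j 1)) := fun j => by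
    obtain ⟨z, hz⟩ := IsAlgClosed.exists_pow_nat_eq (χ (Multiplicative.ofAdd (Pi.single j 1))) hn
    have hu : IsUnit z := by
      rw [← isUnit_pow_iff hn.ne', hz]
      exact (Group.isUnit _).map χ
    exact ⟨hu.unit, hz⟩
  choose u hu using hroot
  let χ' : Multiplicative (Fin r → ℤ) →* K :=
    { toFun := fun v => ((∏ j, u j ^ (v.toAdd j) : Kˣ) : K)
      map_one' := by simp
      map_mul' := fun v w => by simp [zpow_add, Finset.prod_mul_distrib] }
  have hpow : χ' ^ n = χ := by
    refine MonoidHom.ext fun v => ?_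
    have key : ∀ v : Fin r → ℤ, (χ (Multiplicative.ofAdd v)) = ((∏ j, (u j ^ n) ^ (v j) : Kˣ) : K) := by
      intro v
      let χu : Multiplicative (Fin r → ℤ) →* Kˣ := χ.toHomUnits
      have h1 : χu (Multiplicative.ofAdd v) = ∏ j, χu (Multiplicative.ofAdd (Pi.single j 1)) ^ (v j) := by
        simp_rw [← map_zpow, ← map_prod, ← ofAdd_zsmul, ← ofAdd_sum]
        congr 2
        ext l
        simp [Finset.sum_apply, Pi.single_apply]
      have h2 : ∀ j, χu (Multiplicative.ofAdd (Pi.single j 1)) = u j ^ n := fun j =>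
        Units.ext (by simp [χu, hu j])
      calc χ (Multiplicative.ofAdd v) = (χu (Multiplicative.ofAdd v) : K) := rfl
        _ = _ := by rw [h1]; simp_rw [h2]
    rw [show v = Multiplicative.ofAdd v.toAdd from rfl, key]
    simp only [MonoidHom.pow_apply, χ', MonoidHom.coe_mk, OneHom.coe_mk, toAdd_ofAdd]
    rw [← Units.val_pow_eq_pow_val, ← Finset.prod_pow]
    congr 1
    refine Finset.prod_congr rfl fun j _ => ?_
    rw [← zpow_natCast, ← zpow_natCast, ← zpow_mul, ← zpow_mul, mul_comm]
  let z := (DiagGrp.bcPointMulEquiv σ G T).symm (DiagGrp.dsPoint (Fin r → ℤ) q χ' ≫ iL.inv)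
  have hz : z ^ n = x := by
    apply (DiagGrp.bcPointMulEquiv σ G T).injective
    rw [map_pow, MulEquiv.apply_symm_apply, ← cancel_mono iL.hom, MonObj.pow_comp, Category.assoc,
      Iso.inv_hom_id, Category.comp_id, ← map_pow, hpow, hχ]
    rfl
  refine ⟨z.left (IsLocalRing.closedPoint K), ?_⟩
  have h1 : z ≫ (𝟙 G) ^ n = x := by rw [MonObj.comp_pow, Category.comp_id, hz]
  exact (congrArg (fun (w : (Over.map σ).obj T ⟶ G) => w.left (IsLocalRing.closedPoint K)) h1).trans
    (G.left.fromSpecResidueField_apply y _)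

/-- An isogeny of smooth connected commutative affine groups preserves and reflects tori. -/
theorem isTorus_iff {G' G : Over S₀} [GrpObj G'] [GrpObj G] [IsCommMonObj G'] [IsCommMonObj G]
    [Smooth G'.hom] [ConnectedSpace ↥G'.left] [IsAffine G'.left]
    [Smooth G.hom] [ConnectedSpace ↥G.left] [IsAffine G.left]
    (f : G' ⟶ G) [IsMonHom f] (hf : SGA7.IsIsogenyOver f) : Red.IsTorus G' ↔ Red.IsTorus G := by
  haveI := hf.1
  haveI := IsogGaGm24.isIntegral_of_smooth G
  haveI := IsogGaGm24.isIntegral_of_smooth G'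
  obtain ⟨A, _, _, ⟨e⟩⟩ := exists_hopf G (isAffineHom_of_isAffine _)
  obtain ⟨A', _, _, ⟨e'⟩⟩ := exists_hopf G' (isAffineHom_of_isAffine _)
  haveI := isDomain_of_iso e
  haveI := isDomain_of_iso e'
  have mk : ∀ {B : Type u} [CommRing B] [HopfAlgebra k B] {H : Over S₀} [GrpObj H] [IsCommMonObj H] [Smooth H.hom]
      [ConnectedSpace ↥H.left] (eH : Grp.mk (specGrp (R := k) B) ≅ Grp.mk H), NoPrimElt k B → Red.IsTorus H := by
    intro B _ _ H _ _ _ _ eH h
    haveI : Coalgebra.IsCocomm k B := isCocomm_of_iso eH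
    haveI := isDomain_baseChange eH
    haveI : Algebra.FiniteType k B := by
      let i : specGrp (R := k) B ≅ H := (Grp.forget _).mapIso eH
      haveI : IsIso i.hom.left := inferInstanceAs (IsIso ((Over.forget _).map i.hom))
      have : LocallyOfFiniteType (specGrp (R := k) B).hom := by rw [← Over.w i.hom]; infer_instance
      exact RingHom.finiteType_algebraMap.1 ((HasRingHomProperty.Spec_iff (P := @LocallyOfFiniteType)).1 this)
    exact isTorus_of_noPrimElt eH h
  constructor
  · intro hG'
    obtain ⟨φ, hφ⟩ := exists_injective_bialgHom e e' f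
    exact mk e (noPrimElt_of_injective φ hφ (noPrimElt_of_isTorus e' hG'))
  · intro hG
    haveI := isFinite_of_finite_kernel f hf
    haveI : IsLocallyNoetherian G.left := LocallyOfFiniteType.isLocallyNoetherian G.hom
    haveI : Flat f.left := GrpSchField.flat_hom f
    haveI : LocallyOfFinitePresentation f.left := inferInstance
    set n := Scheme.Hom.finrank f.left (η[G].left (IsLocalRing.closedPoint k)) with hn
    haveI : Subsingleton ↥S₀ := inferInstanceAs (Subsingleton (PrimeSpectrum k))
    obtain ⟨g, _, hfg, hgf⟩ := GrpDeligne.exists_dual_hom f n fun s =>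
      (Scheme.Hom.isLocallyConstant_finrank f.left).apply_eq_of_preconnectedSpace _ _
    have hn0 : 0 < n := (Scheme.Hom.one_le_finrank_iff_surjective (f := f.left)).2 ‹_› _
    haveI : Surjective (g.left ≫ f.left) := by
      rw [← Over.comp_left, hgf]; exact surjective_pow_of_isTorus hG hn0
    haveI : QuasiCompact G.hom := inferInstance
    haveI : LocallyOfFiniteType g.left := by
      haveI : LocallyOfFiniteType (g.left ≫ G'.hom) := by rw [Over.w g]; infer_instance
      exact locallyOfFiniteType_of_comp g.left G'.hom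
    haveI : Surjective g.left := by
      have hgen : ∀ {X Y : Scheme.{u}} [IsIntegral X] [IsIntegral Y] (h : X ⟶ Y) [Surjective h],
          h (genericPoint ↥X) = genericPoint ↥Y := fun {X Y} _ _ h _ => by
        refine ((genericPoint_spec ↥X).image h.continuous).eq ?_
        simpa [Set.range_eq_univ.2 h.surjective, Set.image_univ] using genericPoint_spec ↥Y
      let ξ := g.left (genericPoint ↥G.left)
      have h1 : f.left ξ = f.left (genericPoint ↥G'.left) := by
        rw [hgen f.left]
        exact hgen (g.left ≫ f.left)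
      have hξ : ξ = genericPoint ↥G'.left :=
        IsogGaGm24.eq_of_specializes_of_finite f.left (genericPoint_specializes ξ) h1.symm
      have hcl : IsClosed (Set.range g.left) := NeronCompGrp24.isClosed_range_hom g
      refine ⟨Set.range_eq_univ.1 (Set.eq_univ_of_univ_subset ?_)⟩
      rw [← (genericPoint_spec ↥G'.left).def]
      exact closure_minimal (Set.singleton_subset_iff.2 ⟨_, hξ⟩) hcl
    obtain ⟨ψ, hψ⟩ := exists_injective_bialgHom e' e g
    exact mk e' (noPrimElt_of_injective ψ hψ (noPrimElt_of_isTorus e hG))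

end GrothLib.TorusPrim24
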