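import Groth.Agent.Lib.MultHopf14.ToScheme
import Groth.Agent.Lib.HopfAG.NoPrim
import Groth.Agent.Lib.RankComm14.Torus
import Groth.Agent.Lib.GrpDeligne.Basic
import Groth.Agent.Lib.CharFG28.GroupLike

/-!
# A connected commutative affine group is a torus iff it has no primitive function
-/

set_option autoImplicit false
set_option linter.all false
set_option backward.isDefEq.respectTransparency false

universe u

open CategoryTheory CategoryTheory.Limits MonoidalCategory CartesianMonoidalCategory MonObj GrpObj AlgebraicGeometry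
open scoped TensorProduct

namespace GrothLib.TorusPrim24

open GrothLib.MultHopf14 GrothLib.MultDef14

variable {k : Type u} [Field k] (A : Type u) [CommRing A] [HopfAlgebra k A]

local notation "S₀" => Spec (CommRingCat.of k)

/-- No non-zero primitive element. -/
def NoPrimElt (k : Type u) [Field k] (A : Type u) [CommRing A] [HopfAlgebra k A] : Prop :=
  ∀ x : A, Coalgebra.comul (R := k) x = x ⊗ₜ[k] (1 : A) + (1 : A) ⊗ₜ[k] x → x = 0

variable {A}

/-- Primitive elements pull back along injective homomorphisms. -/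
theorem noPrimElt_of_injective {B : Type u} [CommRing B] [HopfAlgebra k B] (φ : A →ₐc[k] B)
    (hφ : Function.Injective φ) (h : NoPrimElt k B) : NoPrimElt k A := fun x hx => by
  refine hφ ((h (φ x) ?_).trans (map_zero φ).symm)
  have := CoalgHomClass.map_comp_comul_apply φ x
  rw [← this, hx, map_add, TensorProduct.map_tmul, TensorProduct.map_tmul]
  simp

/-- The coordinate algebra of a commutative group is cocommutative. -/
theorem isCocomm_of_iso {G : Over S₀} [GrpObj G] [IsCommMonObj G]
    (e : Grp.mk (specGrp (R := k) A) ≅ Grp.mk G) : Coalgebra.IsCocomm k A := by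
  let i : specGrp (R := k) A ≅ G := (Grp.forget _).mapIso e
  haveI : IsMonHom i.hom := e.hom.hom.isMonHom_hom
  refine GrpDeligne.isCocomm_of_commGroup fun T _ _ a b => ?_
  apply Spec.mapMulEquiv.injective
  rw [map_mul, map_mul]
  apply (cancel_mono i.hom).1
  simp only [MonObj.mul_comp]
  exact mul_comm _ _

/-- A torus has no primitive function. -/
theorem noPrimElt_of_isTorus {G : Over S₀} [GrpObj G] (e : Grp.mk (specGrp (R := k) A) ≅ Grp.mk G)
    (hG : Red.IsTorus G) : NoPrimElt k A := by
  obtain ⟨L, _, _, _, r, ⟨eL⟩⟩ := Rigidity.exists_split hG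
  let q := Spec.map (CommRingCat.ofHom (algebraMap k L))
  let e' : Grp.mk (Red.bc (q ≫ 𝟙 S₀) (specGrp (R := k) A)) ≅ Grp.mk (Red.DS (Spec (CommRingCat.of L)) (Fin r → ℤ)) :=
    eqToIso (by rw [Category.comp_id]; rfl) ≪≫ (Over.pullback q).mapGrp.mapIso e ≪≫ eL
  obtain ⟨g, hg⟩ := exists_frame_of_chart (q := 𝟙 S₀) e' (isUniv_specPt A) (isComul_specPt A)
  have hdiag : HopfRep.IsDiagonalizable L (L ⊗[k] A) := by
    refine Submodule.eq_top_iff'.2 fun a => ?_
    obtain ⟨z, rfl⟩ := hg.equiv.toLinearEquiv.surjective a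
    induction z using MonoidAlgebra.induction_on with
    | of m => exact Submodule.subset_span ((MonoidAlgebra.isGroupLikeElem_single_one m).map hg.equiv)
    | add p q hp hq => rw [map_add]; exact add_mem hp hq
    | smul c p hp => rw [map_smul]; exact Submodule.smul_mem _ c hp
  intro x hx
  have h1 := NoPrim.eq_zero_of_primitive_diag hdiag (p := (1 : L) ⊗ₜ[k] x) (by
    rw [NoPrim.comul_one_tmul, hx, map_add, NoPrim.pairMap_tmul, NoPrim.pairMap_tmul]
    rfl)
  exact Algebra.TensorProduct.includeRight_injective (algebraMap k L).injective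
    (h1.trans (map_zero (Algebra.TensorProduct.includeRight : A →ₐ[k] L ⊗[k] A)).symm)

/-- A finitely generated connected commutative group without primitive functions is a torus. -/
theorem isTorus_of_noPrimElt [Algebra.FiniteType k A] [Coalgebra.IsCocomm k A] {G : Over S₀} [GrpObj G]
    (e : Grp.mk (specGrp (R := k) A) ≅ Grp.mk G) [IsDomain (AlgebraicClosure k ⊗[k] A)]
    (h : NoPrimElt k A) : Red.IsTorus G := by
  classical
  let L := AlgebraicClosure k
  let B := L ⊗[k] A
  have hdiag : HopfRep.IsDiagonalizable L B :=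
    NoPrim.isDiagonalizable_of_isAlgClosed (NoPrim.noPrim_baseChange L h)
  haveI := GrothLib.CharFG28.fg_groupLike L B
  haveI : IsMulTorsionFree (GroupLike L B) := by
    refine ⟨fun m hm g h' hgh => ?_⟩
    have h1 : (g / h') ^ m = 1 := by
      rw [div_pow]; exact div_eq_one.2 hgh
    have hint : IsIntegral L ((g / h' : GroupLike L B) : B) := IsIntegral.of_pow (Nat.pos_of_ne_zero hm) (by
      rw [← GroupLike.val_pow, h1, GroupLike.val_one]; exact isIntegral_one)
    haveI : Algebra.IsIntegral L (Algebra.adjoin L {((g / h' : GroupLike L B) : B)}) :=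
      Algebra.IsIntegral.adjoin (by rintro y rfl; exact hint)
    obtain ⟨c, hc⟩ := (IsAlgClosed.algebraMap_bijective_of_isIntegral (k := L)
      (K := Algebra.adjoin L {((g / h' : GroupLike L B) : B)})).2 ⟨_, Algebra.subset_adjoin rfl⟩
    have hc' : algebraMap L B c = ((g / h' : GroupLike L B) : B) := congrArg Subtype.val hc
    have hcc : c = 1 := by
      have := (g / h').2.1
      rw [← hc', Bialgebra.counit_algebraMap] at this
      exact this
    exact div_eq_one.1 (GroupLike.val_injective (by rw [← hc', hcc, map_one, GroupLike.val_one]))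
  haveI : Module.Finite ℤ (Additive (GroupLike L B)) := Module.Finite.iff_addGroup_fg.2 inferInstance
  let r := Module.finrank ℤ (Additive (GroupLike L B))
  let b : Module.Basis (Fin r) ℤ (Additive (GroupLike L B)) := Module.finBasis ℤ _
  let eG : Multiplicative (Fin r → ℤ) ≃* GroupLike L B :=
    AddEquiv.toMultiplicativeLeft b.equivFun.symm.toAddEquiv
  let Φ : MonoidAlgebra L (Multiplicative (Fin r → ℤ)) →ₐc[L] B :=
    (MonoidAlgebra.liftGroupLikeBialgHom (R := L) (A := B)).comp
      (MonoidAlgebra.mapDomainBialgHom L eG.toMonoidHom)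
  have hbij : Function.Bijective Φ := by
    refine ⟨(GrothLib.CharFG28.liftGroupLike_injective L B).comp (MonoidAlgebra.mapDomain_injective eG.injective),
      fun a => ?_⟩
    have ha : a ∈ Submodule.span L {a : B | IsGroupLikeElem L a} := by rw [hdiag]; trivial
    induction ha using Submodule.span_induction with
    | mem c hc => exact ⟨MonoidAlgebra.single (eG.symm ⟨c, hc⟩) 1, by simp [Φ]⟩
    | zero => exact ⟨0, map_zero _⟩
    | add c d _ _ hc hd =>
      obtain ⟨c', rfl⟩ := hc
      obtain ⟨d', rfl⟩ := hd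
      exact ⟨c' + d', map_add _ _ _⟩
    | smul r c _ hc =>
      obtain ⟨c', rfl⟩ := hc
      exact ⟨r • c', map_smul _ _ _⟩
  obtain ⟨e₁⟩ := bcGrp_specGrp (R := k) L A
  obtain ⟨e₂⟩ := grpIso_of_bialgEquiv (BialgEquiv.ofBijective Φ hbij)
  haveI := isMonHom_diagToDS L (Fin r → ℤ)
  haveI := isIso_diagToDS L (Fin r → ℤ)
  let e₃ : Grp.mk (Red.diag L (Fin r → ℤ)) ≅ Grp.mk (Red.DS (Spec (CommRingCat.of L)) (Fin r → ℤ)) :=
    Grp.mkIso (asIso (diagToDS L (Fin r → ℤ))) (IsMonHom.one_hom _) (IsMonHom.mul_hom _)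
  let σ : Spec (CommRingCat.of L) ⟶ S₀ := Spec.map (CommRingCat.ofHom (algebraMap k L))
  let eT : Grp.mk (Red.bc σ G) ≅ Grp.mk (Red.DS (Spec (CommRingCat.of L)) (Fin r → ℤ)) :=
    (Over.pullback σ).mapGrp.mapIso e.symm ≪≫ e₁ ≪≫ e₂ ≪≫ e₃
  haveI : Flat σ := Flat.SpecMap_iff.2 (RingHom.flat_algebraMap_iff.2 inferInstance)
  haveI : Subsingleton ↥S₀ := inferInstanceAs (Subsingleton (PrimeSpectrum k))
  have hs : Surjective σ := ⟨fun x => ⟨IsLocalRing.closedPoint L, Subsingleton.elim _ _⟩⟩
  refine ⟨Spec (CommRingCat.of L), σ, inferInstance, hs, fun V hV => ⟨σ ⁻¹ᵁ V, (hV.preimage σ).isCompact,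
    Set.image_preimage_eq _ hs.surj⟩, fun s' => ⟨⊤, trivial, r, ?_⟩⟩
  let y := (⊤ : (Spec (CommRingCat.of L)).Opens).ι
  have hterm : y ≫ Limits.IsTerminal.from specULiftZIsTerminal (Spec (CommRingCat.of L)) =
      Limits.IsTerminal.from specULiftZIsTerminal _ := specULiftZIsTerminal.hom_ext _ _
  exact ⟨(DiagGrp.bcGrpComp G σ y _ rfl).trans (((Over.pullback y).mapGrp.mapIso eT).trans
    (DiagGrp.bcGrpComp (Red.diag (ULift.{u} ℤ) (Fin r → ℤ)) (Limits.IsTerminal.from specULiftZIsTerminal _) y
      (Limits.IsTerminal.from specULiftZIsTerminal _) hterm.symm).symm)⟩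

end GrothLib.TorusPrim24
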